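import Cfsg.Agent.Lib.Helper28.TCChain
import Cfsg.Agent.Lib.Helper28.HePD

set_option autoImplicit false
set_option maxRecDepth 100000

namespace Cfsg.Agent.Lib.Helper28.He2058Coll

open Cfsg.Agent.Lib.Helper28

noncomputable def tabC0 : Tr := .leaf 0xc32f000000000005004240
noncomputable def auxC0 : Tr := .leaf 0x20a2100000000000000000800
noncomputable def tabC1 : Tr := .leaf 0x41000000000000864060
noncomputable def auxC1 : Tr := .leaf 0x4300000000000000300000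
noncomputable def tabC2 : Tr := .leaf 0x184d72e00000000010d805480
noncomputable def auxC2 : Tr := .leaf 0x84a5c2000000000000100035c00
noncomputable def tabC3 : Tr := .leaf 0x5a4012b70c080021441a094a0
noncomputable def auxC3 : Tr := .leaf 0x28900059025c5000053549536000
noncomputable def tabC4 : Tr := .leaf 0x292000000000a5001a000c0
noncomputable def auxC4 : Tr := .leaf 0x26800000000000e0009400000
noncomputable def tabC5 : Tr := .leaf 0x59800005080001024299400e0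
noncomputable def auxC5 : Tr := .leaf 0x9b0000002800001c604c1200000
noncomputable def tabC6 : Tr := .leaf 0x5a0000010a8400e24399c0100
noncomputable def auxC6 : Tr := .leaf 0x9c0000002007001880441000000
noncomputable def tabC7 : Tr := .leaf 0x5289830518904a26248b46200
noncomputable def auxC7 : Tr := .leaf 0x29d97a2272dcc0350f35a5f88c00
noncomputable def dC : Tr := .leaf 0x822004101805010030080100000
noncomputable def tabCols : List Tr := [tabC0, tabC1, tabC2, tabC3, tabC4, tabC5, tabC6, tabC7]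
noncomputable def auxCols : List Tr := [auxC0, auxC1, auxC2, auxC3, auxC4, auxC5, auxC6, auxC7]
def pairsC : List ((List ℕ × ℕ × List ℕ) × ℕ) := [
  (([0], 0, []), 0),
  (([1], 1, []), 1024),
  (([2], 2, []), 2048),
  (([3], 3, []), 3072),
  (([5], 5, []), 5120),
  (([5], 6, [3]), 32770),
  (([6], 6, []), 6144),
  (([6], 3, [5]), 32772),
  (([6], 5, [3]), 32769),
  (([], 7, [6, 3, 6, 3, 6, 3]), 24576),
  (([3], 7, [7, 3]), 3072),
  (([6, 7, 5, 7, 6, 7, 5, 7, 4], 7, []), 28674),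
  (([6, 7, 5, 7], 4, [5, 7, 6, 7]), 28678),
  (([], 7, [4, 3, 4, 7, 3, 4, 3]), 22528),
  (([6, 7, 7, 1], 6, [1]), 17409),
  (([6, 7, 7, 2], 6, [2]), 21505),
  (([5, 7, 1], 5, [1]), 16385),
  (([5, 7, 2], 5, [2]), 20481),
  (([5, 6, 5], 4, [6]), 28676),
  (([5, 6], 3, []), 32770),
  (([], 7, [3, 2, 3, 7, 2, 3, 2, 3, 7, 2, 3, 2, 0]), 30723),
  (([7], 2, [2]), 2048),
  (([7], 3, [3, 7]), 3072),
  (([1], 3, [3, 1]), 14336),
  (([0], 4, [4, 0]), 10240),
  (([2], 5, [5, 2]), 20480),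
  (([2], 6, [6, 2]), 21504),
  (([], 7, [3, 2, 3, 2, 3, 2, 3, 2, 3, 2, 0]), 30723),
  (([], 7, [4, 2, 1, 0, 2, 1, 0, 2, 1, 0]), 29697),
  (([0], 7, [7, 0]), 0),
  (([2, 7, 1], 2, [1, 7, 2, 7, 1]), 13313),
  (([2, 3, 2, 3, 2, 3, 2, 3, 2], 0, [3]), 30724),
  (([], 7, [2, 1, 0, 2, 7, 1, 0, 2, 1, 0, 4, 7]), 29699),
  (([7, 0], 7, [0, 7]), 0),
  (([], 7, []), 41984)]
def subL : List ℕ := []
noncomputable def D : UB where
  tab := field tabCols 6 63 9 511
  aux := field auxCols 6 63 10 1023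
  dinfo := field [dC] 6 63 10 1023 0
  rb := 5
  RM := 31
  pb := 6
  PM := 63
  m := 11
  K := 7
  Kall := 8
  pairs := pairsC.map Prod.fst
  isSub := fun x => subL.contains x
  fuel := 64
def ren : ℕ → ℕ
  | 0 => 0
  | 1 => 1
  | 2 => 2
  | 3 => 3
  | 4 => 4
  | 5 => 5
  | 6 => 6
  | _ => 0
def relsL : List (List ℕ) := [
  [0, 0],
  [1, 1],
  [2, 2],
  [3, 3],
  [4, 4],
  [5, 5],
  [6, 6],
  [0, 1, 0, 1, 0, 1, 0, 1],
  [0, 2, 0, 2],
  [0, 3, 0, 3],
  [0, 4, 0, 4],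
  [0, 5, 0, 5],
  [0, 6, 0, 6],
  [1, 2, 1, 2, 1, 2],
  [1, 3, 1, 3],
  [1, 4, 1, 4],
  [1, 5, 1, 5],
  [1, 6, 1, 6],
  [2, 3, 2, 3, 2, 3, 2, 3, 2, 3, 2, 3, 2, 3, 2, 3, 2, 3, 2, 3],
  [2, 4, 2, 4],
  [2, 5, 2, 5],
  [2, 6, 2, 6],
  [3, 4, 3, 4, 3, 4],
  [3, 5, 3, 5, 3, 5],
  [3, 6, 3, 6, 3, 6],
  [4, 5, 4, 5],
  [4, 6, 4, 6],
  [5, 6, 5, 6, 5, 6, 5, 6],
  [4, 6, 5, 6, 5],
  [4, 2, 1, 0, 2, 1, 0, 2, 1, 0],
  [0, 3, 2, 3, 2, 3, 2, 3, 2, 3, 2],
  [2, 3, 5, 6, 2, 3, 5, 6, 2, 3, 5, 6, 2, 3, 5, 6],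
  [3, 5, 6]]
noncomputable def Lk : Link where
  D := D
  ren := ren
  inv := fun x => x
  rels := relsL
  pairsC := pairsC
  subL := subL
  n := 1
theorem chk_0 : allRange D.checkLabel 0 11 = true := by decide +kernel
theorem check_all : ∀ c < D.m, D.checkLabel c = true := by
  intro c hc
  have hc' : c < 11 := hc
  by_cases h0 : c < 11
  · exact allRange_iff.mp chk_0 c (by omega) (by omega)
  omega
theorem pairs_ok : pairsC.all (pairOK (relsAll relsL (fun x => x) 8) (fun x => x) 7 8) = true := by decide +kernel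
theorem relsK_ok : ∀ r ∈ relsAll relsL (fun x => x) 8, ∀ y ∈ r, y < 8 := by decide +kernel
theorem core : Lk.Core (Cfsg.Agent.Lib.Helper28.HePD.pd.words ++ [[3, 5, 6]]) Cfsg.Agent.Lib.Helper28.HePD.pd.inv Cfsg.Agent.Lib.Helper28.HePD.pd.K [] where
  Kall := rfl
  invK := by decide +kernel
  invE := rfl
  relsIn := by decide +kernel
  Dpairs := rfl
  pairs := pairs_ok
  relsK := relsK_ok
  isSub := by
    intro x hx
    have hx' : subL.contains x = true := hx
    show x ∈ subL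
    simpa using hx'
  sub := by decide +kernel
  check := check_all
theorem fin_all : allBelow D.finalLabel 11 = true := by decide +kernel
theorem live_count : D.liveCount = 1 := by decide +kernel
theorem h0_ok : D.tg D.K 0 = 0 := by decide +kernel
theorem ok : Lk.OK (Cfsg.Agent.Lib.Helper28.HePD.pd.words ++ [[3, 5, 6]]) Cfsg.Agent.Lib.Helper28.HePD.pd.inv Cfsg.Agent.Lib.Helper28.HePD.pd.K [0, 1, 2, 3, 4, 5, 6] [] where
  toCore := core
  gens := by decide +kernel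
  hm := by decide
  h0 := h0_ok
  fin := allBelow_iff.mp fin_all
  count := live_count

end Cfsg.Agent.Lib.Helper28.He2058Coll

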