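import Cfsg.Agent.Lib.Helper28.J1p266
import Cfsg.Agent.Lib.Helper28.TCOrbit

set_option autoImplicit false
set_option maxRecDepth 100000

namespace Cfsg.Agent.Lib.Helper28.J1p266

open Cfsg.Agent.Lib.Helper28
noncomputable def oC : Tr := .node (.node (.node (.leaf 0x1b8000c4360001c86a000609080002111820068400000c4ac180588e4000c1538200a4bd040188ac08058a40100514902014203040084560003084430082148000a43400018466000588c800031718200a2300002491018021400100a181060182940401c8500005887c300141200004821000248ec1804107c0001400000008270003444c0004103410013098000c42d0c03057a18031288100525d0200e2940c01c81a0000987000023510600a4ed0c02c4320003928c300620b800102160002080000001a2c100922c0200e27f0402c40a0000915030092058001028e0403040000001008000b100800023000c0284000000080000000)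
 (.leaf 0x821802a238300c129820104fd0c01c4c018058c1c0009283000102f90002c4dc080193d400091))
 (.node (.leaf 0x5f0001041b0c01c9b6000293d8100523b020104d90001858800022360000a103820122a80402443a08049358000a26a8000e4150c008c820802a34c000827a020102a30401899c18029bf83008116020082140400cc3a1804933400081660000841f0400502a08011a04300a1468000a48c000109c018039228000627e02012409040089ec1802921800092428001643e0c0208fe18058a080008125860102010c00441e080489f8000623e8001247c000245da080589e800041678600c2a40002c510080213741003250800104a70c0148440805127800032648200c4b30c0209081805126800092300201622e0401c52e00048a5800021)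
 (.leaf 0)))
 (.node (.node (.leaf 0x4a800142710c01487c080413f810081378201623c0400c51e00038a803007254060122680001c8ca000409e41008129860104620c0244be000213d0300812e8001425c0000897e080493bc100512c0600e278000208ee00050b243006233000182b80402c57418038b1c10071170600e263000204e6000491c8000a137060064700002448e180488141001207020124b00c024908080511b0000617e8200e24c0002859e0803092800082248000e40f0c02458e1803882430022228001822d0403043608039188100912a8000e23f0401c85e18031148000a128800102500000c89008058920300b12680010401040044760002200c30021)
 (.leaf 0))
 (.node (.leaf 0x618600c2f30001c5e400030bc40008203860122800c00c4bc080508441008240820143010001089608040bfc00071618200c2900c01447e18039368300a274000082a00401c9f600050bac000c134860162920c0285d4000588f0300312186012447040245c8000489e4300817d000083040402888c08021320000622f0601422c0c010584000112cc1008223060084bb000249de18028c0c1009111060144fc0c02485e0803103430013700200e4310401c59c08029ab000091558000a2aa00010c6218038b743003252800066bf0c0249c2000291c410052630000c2e30c0145be0005888c300346f0000a2050c004a081805137000092)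
 (.leaf 0)))
noncomputable def O : Orb where
  oinfo := field [oC] 6 63 31 2147483647 0
  roots := [0, 1, 5, 13, 31]
theorem oinv_ok : allBelow (O.checkInv Q) 266 = true := by decide +kernel
theorem otree_ok : allBelow (O.checkTree Q) 266 = true := by decide +kernel
theorem O_ok : O.OK Q where
  inv := allBelow_iff.mp oinv_ok
  tree := allBelow_iff.mp otree_ok
theorem hS1 : ∀ E ∈ Q.subE, E.value Q.P.lfree ∈ S := by
  intro E hE
  simp only [Q, subE, List.mem_cons, List.mem_nil_iff, or_false] at hE
  rcases hE with rfl | rfl
  · exact Set.mem_insert _ _
  · exact Set.mem_insert_of_mem _ (Set.mem_singleton _)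
theorem count_0 : O.count Q 0 = 1 := by decide +kernel
theorem root_0 : nth O.roots Q.n 0 < Q.n ∧ O.oid (nth O.roots Q.n 0) = 0 := by decide +kernel
theorem count_1 : O.count Q 1 = 132 := by decide +kernel
theorem root_1 : nth O.roots Q.n 1 < Q.n ∧ O.oid (nth O.roots Q.n 1) = 1 := by decide +kernel
theorem count_2 : O.count Q 2 = 110 := by decide +kernel
theorem root_2 : nth O.roots Q.n 2 < Q.n ∧ O.oid (nth O.roots Q.n 2) = 2 := by decide +kernel
theorem count_3 : O.count Q 3 = 12 := by decide +kernel
theorem root_3 : nth O.roots Q.n 3 < Q.n ∧ O.oid (nth O.roots Q.n 3) = 3 := by decide +kernel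
theorem count_4 : O.count Q 4 = 11 := by decide +kernel
theorem root_4 : nth O.roots Q.n 4 < Q.n ∧ O.oid (nth O.roots Q.n 4) = 4 := by decide +kernel

end Cfsg.Agent.Lib.Helper28.J1p266
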