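import Cfsg.Agent.Lib.Helper28.J1pL1C0
import Cfsg.Agent.Lib.Helper28.J1pL1C1
import Cfsg.Agent.Lib.Helper28.J1pL1C2
import Cfsg.Agent.Lib.Helper28.J1pL1C3

set_option autoImplicit false
set_option maxRecDepth 100000

namespace Cfsg.Agent.Lib.Helper28.J1pL1

open Cfsg.Agent.Lib.Helper28

theorem check_all : ∀ c < D.m, D.checkLabel c = true := by
  intro c hc
  have hc' : c < 60130 := hc
  by_cases h0 : c < 1500
  · exact allRange_iff.mp chk_0 c (by omega) (by omega)
  by_cases h1 : c < 3000
  · exact allRange_iff.mp chk_1 c (by omega) (by omega)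
  by_cases h2 : c < 4500
  · exact allRange_iff.mp chk_2 c (by omega) (by omega)
  by_cases h3 : c < 6000
  · exact allRange_iff.mp chk_3 c (by omega) (by omega)
  by_cases h4 : c < 7500
  · exact allRange_iff.mp chk_4 c (by omega) (by omega)
  by_cases h5 : c < 9000
  · exact allRange_iff.mp chk_5 c (by omega) (by omega)
  by_cases h6 : c < 10500
  · exact allRange_iff.mp chk_6 c (by omega) (by omega)
  by_cases h7 : c < 12000
  · exact allRange_iff.mp chk_7 c (by omega) (by omega)
  by_cases h8 : c < 13500
  · exact allRange_iff.mp chk_8 c (by omega) (by omega)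
  by_cases h9 : c < 15000
  · exact allRange_iff.mp chk_9 c (by omega) (by omega)
  by_cases h10 : c < 16500
  · exact allRange_iff.mp chk_10 c (by omega) (by omega)
  by_cases h11 : c < 18000
  · exact allRange_iff.mp chk_11 c (by omega) (by omega)
  by_cases h12 : c < 19500
  · exact allRange_iff.mp chk_12 c (by omega) (by omega)
  by_cases h13 : c < 21000
  · exact allRange_iff.mp chk_13 c (by omega) (by omega)
  by_cases h14 : c < 22500
  · exact allRange_iff.mp chk_14 c (by omega) (by omega)
  by_cases h15 : c < 24000
  · exact allRange_iff.mp chk_15 c (by omega) (by omega)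
  by_cases h16 : c < 25500
  · exact allRange_iff.mp chk_16 c (by omega) (by omega)
  by_cases h17 : c < 27000
  · exact allRange_iff.mp chk_17 c (by omega) (by omega)
  by_cases h18 : c < 28500
  · exact allRange_iff.mp chk_18 c (by omega) (by omega)
  by_cases h19 : c < 30000
  · exact allRange_iff.mp chk_19 c (by omega) (by omega)
  by_cases h20 : c < 31500
  · exact allRange_iff.mp chk_20 c (by omega) (by omega)
  by_cases h21 : c < 33000
  · exact allRange_iff.mp chk_21 c (by omega) (by omega)
  by_cases h22 : c < 34500
  · exact allRange_iff.mp chk_22 c (by omega) (by omega)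
  by_cases h23 : c < 36000
  · exact allRange_iff.mp chk_23 c (by omega) (by omega)
  by_cases h24 : c < 37500
  · exact allRange_iff.mp chk_24 c (by omega) (by omega)
  by_cases h25 : c < 39000
  · exact allRange_iff.mp chk_25 c (by omega) (by omega)
  by_cases h26 : c < 40500
  · exact allRange_iff.mp chk_26 c (by omega) (by omega)
  by_cases h27 : c < 42000
  · exact allRange_iff.mp chk_27 c (by omega) (by omega)
  by_cases h28 : c < 43500
  · exact allRange_iff.mp chk_28 c (by omega) (by omega)
  by_cases h29 : c < 45000
  · exact allRange_iff.mp chk_29 c (by omega) (by omega)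
  by_cases h30 : c < 46500
  · exact allRange_iff.mp chk_30 c (by omega) (by omega)
  by_cases h31 : c < 48000
  · exact allRange_iff.mp chk_31 c (by omega) (by omega)
  by_cases h32 : c < 49500
  · exact allRange_iff.mp chk_32 c (by omega) (by omega)
  by_cases h33 : c < 51000
  · exact allRange_iff.mp chk_33 c (by omega) (by omega)
  by_cases h34 : c < 52500
  · exact allRange_iff.mp chk_34 c (by omega) (by omega)
  by_cases h35 : c < 54000
  · exact allRange_iff.mp chk_35 c (by omega) (by omega)
  by_cases h36 : c < 55500
  · exact allRange_iff.mp chk_36 c (by omega) (by omega)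
  by_cases h37 : c < 57000
  · exact allRange_iff.mp chk_37 c (by omega) (by omega)
  by_cases h38 : c < 58500
  · exact allRange_iff.mp chk_38 c (by omega) (by omega)
  by_cases h39 : c < 60000
  · exact allRange_iff.mp chk_39 c (by omega) (by omega)
  by_cases h40 : c < 60130
  · exact allRange_iff.mp chk_40 c (by omega) (by omega)
  omega
theorem pairs_ok : pairsC.all (pairOK (relsAll relsL invL 5) invL 4 5) = true := by decide +kernel
theorem relsK_ok : ∀ r ∈ relsAll relsL invL 5, ∀ y ∈ r, y < 5 := by decide +kernel
theorem core : Lk.Core (Cfsg.Agent.Lib.Helper28.J1pPD.pd.words) Cfsg.Agent.Lib.Helper28.J1pPD.pd.inv Cfsg.Agent.Lib.Helper28.J1pPD.pd.K [2, 3] where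
  Kall := rfl
  invK := by decide +kernel
  invE := rfl
  relsIn := by decide +kernel
  Dpairs := rfl
  pairs := pairs_ok
  relsK := relsK_ok
  isSub := by
    intro x hx
    have hx' : subL.contains x = true := hx
    show x ∈ subL
    simpa using hx'
  sub := by decide +kernel
  check := check_all
theorem fin_all : allBelow D.finalLabel 60130 = true := by decide +kernel
theorem live_count : D.liveCount = 58520 := by decide +kernel
theorem h0_ok : D.tg D.K 0 = 0 := by decide +kernel
theorem ok : Lk.OK (Cfsg.Agent.Lib.Helper28.J1pPD.pd.words) Cfsg.Agent.Lib.Helper28.J1pPD.pd.inv Cfsg.Agent.Lib.Helper28.J1pPD.pd.K [0, 1, 2, 3] [2, 3] where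
  toCore := core
  gens := by decide +kernel
  hm := by decide
  h0 := h0_ok
  fin := allBelow_iff.mp fin_all
  count := live_count

end Cfsg.Agent.Lib.Helper28.J1pL1

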