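import Cfsg.Agent.Lib.Helper28.TCChain
import Cfsg.Agent.Lib.Helper28.L37pPD

set_option autoImplicit false
set_option maxRecDepth 100000

namespace Cfsg.Agent.Lib.Helper28.L37p57Coll

open Cfsg.Agent.Lib.Helper28

noncomputable def tabC0 : Tr := .leaf 0x1254140038c0028c00690000002118840
noncomputable def auxC0 : Tr := .leaf 0x203386000c18002060018180000000c41800
noncomputable def tabC1 : Tr := .leaf 0x38cc328c00711a461142489020004108460
noncomputable def auxC1 : Tr := .leaf 0x49892120001a8b115a293d071cd00001001000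
noncomputable def tabC2 : Tr := .leaf 0x3140000000000610000000000000000856000080
noncomputable def auxC2 : Tr := .leaf 0x2ac00000000000218000000000000000000c00000000
noncomputable def tabC3 : Tr := .leaf 0xe330c0000000000000000000000810000856200082
noncomputable def auxC3 : Tr := .leaf 0xd81aa0000000000000000000000001eb80000aa14000c5
noncomputable def tabC4 : Tr := .leaf 0x81000000000083400104000002178180400a0
noncomputable def auxC4 : Tr := .leaf 0x32000000000001ed0000900000000800000000000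
noncomputable def tabC5 : Tr := .leaf 0x53000000000000082e24104000000078800408a2
noncomputable def auxC5 : Tr := .leaf 0x4b600000000000001f341908e0000000070e000e3907
noncomputable def tabC6 : Tr := .leaf 0x205c30000000000000410000008400801a0480c0
noncomputable def auxC6 : Tr := .leaf 0x194350000000000000004a0000000500000000000000
noncomputable def tabC7 : Tr := .leaf 0x610000019c41000000000000000488c2
noncomputable def auxC7 : Tr := .leaf 0x89000001900490000000000000000104949
noncomputable def tabC8 : Tr := .leaf 0x81429251840000000105e60002100000881c0500e0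
noncomputable def auxC8 : Tr := .leaf 0xcc3c8870460000000002638c0000300000000000000000
noncomputable def tabC9 : Tr := .leaf 0x184000000010400000001a000001c2000e2
noncomputable def auxC9 : Tr := .leaf 0x4580000000025800000001b1000000d2c0018b
noncomputable def tabC10 : Tr := .leaf 0x2201382831d463310b434e71c08d13c890c0320c400
noncomputable def auxC10 : Tr := .leaf 0x4304d48858fb9d4cef957431e2d8ba4b5ba32da1bc17000
noncomputable def dC : Tr := .leaf 0xc818c31044086108208240460880200300400400400000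
noncomputable def tabCols : List Tr := [tabC0, tabC1, tabC2, tabC3, tabC4, tabC5, tabC6, tabC7, tabC8, tabC9, tabC10]
noncomputable def auxCols : List Tr := [auxC0, auxC1, auxC2, auxC3, auxC4, auxC5, auxC6, auxC7, auxC8, auxC9, auxC10]
def pairsC : List ((List ℕ × ℕ × List ℕ) × ℕ) := [
  (([0], 1, []), 18432),
  (([1], 0, []), 18434),
  (([1], 1, [0]), 1),
  (([2], 3, []), 20480),
  (([2], 2, []), 1024),
  (([4], 5, []), 22528),
  (([4], 4, []), 2048),
  (([6], 7, []), 24576),
  (([6], 6, []), 3072),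
  (([8], 9, []), 26624),
  (([8], 8, []), 4096),
  (([4, 1, 4], 1, []), 6146),
  (([6, 1, 6], 1, []), 7170),
  (([8, 1, 8], 1, []), 8194),
  (([4], 1, [0, 5]), 6146),
  (([1, 1], 1, []), 1),
  (([6], 1, [0, 7]), 7170),
  (([8], 1, [0, 9]), 8194),
  (([4], 6, [3, 1, 9]), 17412),
  (([6], 3, [2, 7]), 10242),
  (([3], 2, []), 20482),
  (([3], 3, []), 1025),
  (([8], 3, [2, 9]), 11266),
  (([3, 1, 9, 7], 5, []), 17413),
  (([5], 4, []), 22530),
  (([5], 5, []), 2049),
  (([5, 8, 5], 8, []), 13312),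
  (([6, 9, 6], 10, [8, 7, 8]), 14339),
  (([0], 10, [10, 0]), 18432),
  (([10, 1], 10, [1]), 18434),
  (([10], 7, [7]), 24578),
  (([8], 10, [10, 8]), 26624),
  (([10], 9, [9]), 26626),
  (([10, 4], 10, [4]), 22528),
  (([0, 10, 2, 4, 10, 6], 8, []), 17408),
  (([2, 9, 2], 10, [8]), 11267),
  (([8, 5, 8], 5, []), 13314),
  (([7, 4], 10, [5, 6, 5, 10, 6]), 12289),
  (([10, 0, 10], 10, [0]), 18432),
  (([10, 1, 10], 10, [1, 10]), 18434),
  (([4], 10, [10, 4]), 22528),
  (([], 10, [3, 10, 0, 3, 10, 0, 10, 3, 0]), 5120),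
  (([0, 10, 10], 10, [10, 0]), 18432),
  (([1, 10, 10], 10, [10, 1]), 18434),
  (([9, 10, 10, 7, 10, 5, 10, 3, 10, 10, 1], 10, []), 17409),
  (([0], 10, [10, 0, 10]), 18432),
  (([], 10, []), 29696)]
def subL : List ℕ := []
noncomputable def D : UB where
  tab := field tabCols 6 63 10 1023
  aux := field auxCols 6 63 11 2047
  dinfo := field [dC] 6 63 11 2047 0
  rb := 5
  RM := 31
  pb := 6
  PM := 63
  m := 17
  K := 10
  Kall := 11
  pairs := pairsC.map Prod.fst
  isSub := fun x => subL.contains x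
  fuel := 64
def ren : ℕ → ℕ
  | 0 => 0
  | 1 => 1
  | 2 => 2
  | 3 => 3
  | 4 => 4
  | 5 => 5
  | 6 => 6
  | 7 => 7
  | 8 => 8
  | 9 => 9
  | _ => 0
def invL : ℕ → ℕ
  | 0 => 1
  | 1 => 0
  | 2 => 3
  | 3 => 2
  | 4 => 5
  | 5 => 4
  | 6 => 7
  | 7 => 6
  | 8 => 9
  | 9 => 8
  | x => x
def relsL : List (List ℕ) := [
  [0, 0, 0],
  [2, 2],
  [4, 4],
  [6, 6],
  [8, 8],
  [1, 2, 1, 2, 1, 2],
  [1, 4, 1, 4],
  [1, 6, 1, 6],
  [1, 8, 1, 8],
  [3, 4, 3, 4, 3, 4, 3, 4, 3, 4, 3, 4, 3, 4, 3, 4],
  [3, 6, 3, 6],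
  [3, 8, 3, 8],
  [5, 6, 5, 6, 5, 6],
  [5, 8, 5, 8],
  [7, 8, 7, 8, 7, 8],
  [8, 5, 2, 5, 2, 5, 2, 5, 2],
  [9, 4, 3, 4, 3, 4, 3, 4, 3],
  [0, 2, 4, 6, 8]]
noncomputable def Lk : Link where
  D := D
  ren := ren
  inv := invL
  rels := relsL
  pairsC := pairsC
  subL := subL
  n := 1
theorem chk_0 : allRange D.checkLabel 0 17 = true := by decide +kernel
theorem check_all : ∀ c < D.m, D.checkLabel c = true := by
  intro c hc
  have hc' : c < 17 := hc
  by_cases h0 : c < 17
  · exact allRange_iff.mp chk_0 c (by omega) (by omega)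
  omega
theorem pairs_ok : pairsC.all (pairOK (relsAll relsL invL 11) invL 10 11) = true := by decide +kernel
theorem relsK_ok : ∀ r ∈ relsAll relsL invL 11, ∀ y ∈ r, y < 11 := by decide +kernel
theorem core : Lk.Core (Cfsg.Agent.Lib.Helper28.L37pPD.pd.words ++ [[0, 2, 4, 6, 8]]) Cfsg.Agent.Lib.Helper28.L37pPD.pd.inv Cfsg.Agent.Lib.Helper28.L37pPD.pd.K [] where
  Kall := rfl
  invK := by decide +kernel
  invE := rfl
  relsIn := by decide +kernel
  Dpairs := rfl
  pairs := pairs_ok
  relsK := relsK_ok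
  isSub := by
    intro x hx
    have hx' : subL.contains x = true := hx
    show x ∈ subL
    simpa using hx'
  sub := by decide +kernel
  check := check_all
theorem fin_all : allBelow D.finalLabel 17 = true := by decide +kernel
theorem live_count : D.liveCount = 1 := by decide +kernel
theorem h0_ok : D.tg D.K 0 = 0 := by decide +kernel
theorem ok : Lk.OK (Cfsg.Agent.Lib.Helper28.L37pPD.pd.words ++ [[0, 2, 4, 6, 8]]) Cfsg.Agent.Lib.Helper28.L37pPD.pd.inv Cfsg.Agent.Lib.Helper28.L37pPD.pd.K [0, 1, 2, 3, 4, 5, 6, 7, 8, 9] [] where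
  toCore := core
  gens := by decide +kernel
  hm := by decide
  h0 := h0_ok
  fin := allBelow_iff.mp fin_all
  count := live_count

end Cfsg.Agent.Lib.Helper28.L37p57Coll

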