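import Cfsg.Agent.Lib.Helper28.L37p57
import Cfsg.Agent.Lib.Helper28.TCOrbit

set_option autoImplicit false
set_option maxRecDepth 100000

namespace Cfsg.Agent.Lib.Helper28.L37p57

open Cfsg.Agent.Lib.Helper28
noncomputable def oC : Tr := .leaf 0xb0200b1d0000a1d4200b1c0100a1cc10091b400081c4200a1bc00091b800091b410081a42008174200719c000a1c0200a1642006198000719400091cc200915c20061a41008170200617c00081981007164100619010071741007188000814c0006150100516000071481004154000514c1006168000513c0004148200414400041582005140000312c20031082002140100312410061380007118100611c000211c1002150200512c100310420011100005120000410c200412800031040001100000010000000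
noncomputable def O : Orb where
  oinfo := field [oC] 6 63 28 268435455 0
  roots := [0, 1]
theorem oinv_ok : allBelow (O.checkInv Q) 57 = true := by decide +kernel
theorem otree_ok : allBelow (O.checkTree Q) 57 = true := by decide +kernel
theorem O_ok : O.OK Q where
  inv := allBelow_iff.mp oinv_ok
  tree := allBelow_iff.mp otree_ok
theorem hS1 : ∀ E ∈ Q.subE, E.value Q.P.lfree ∈ S := by
  intro E hE
  simp only [Q, subE, List.mem_cons, List.mem_nil_iff, or_false] at hE
  rcases hE with rfl | rfl | rfl
  · exact Set.mem_insert _ _
  · exact Set.mem_insert_of_mem _ (Set.mem_insert _ _)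
  · exact Set.mem_insert_of_mem _ (Set.mem_insert_of_mem _ (Set.mem_singleton _))
theorem count_0 : O.count Q 0 = 1 := by decide +kernel
theorem root_0 : nth O.roots Q.n 0 < Q.n ∧ O.oid (nth O.roots Q.n 0) = 0 := by decide +kernel
theorem count_1 : O.count Q 1 = 56 := by decide +kernel
theorem root_1 : nth O.roots Q.n 1 < Q.n ∧ O.oid (nth O.roots Q.n 1) = 1 := by decide +kernel

end Cfsg.Agent.Lib.Helper28.L37p57
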