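import Cfsg.Agent.Lib.Helper28.L37p57Data
import Cfsg.Agent.Lib.Helper28.TCStab

set_option autoImplicit false
set_option maxRecDepth 100000

namespace Cfsg.Agent.Lib.Helper28.L37p57

open Cfsg.Agent.Lib.Helper28

noncomputable def lev0C : Tr := .leaf 0xd840101e020111cc200f1dc00121d400131c4000e1bc200d1c0000d1b4600c1b4000c1bc000d19c400b1ac000c19c000b1a4000d194000c198000b188200a190000a180200b178200917c000b178000918c000c188000a190400a164400816c000915c000d164000817c200b150200714c0008168000c150000714420061480006154000713c600513c0005144000612440041340005124000412c000611c0005120000411420031180003110200410c200210c0002114000310040011040002100000110000001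
def lev0T : List (List ℕ) := [
  [0],
  [1],
  [2],
  [3],
  [4],
  [5],
  [6],
  [7],
  [8],
  [9]]
noncomputable def lev0 : Lev where
  b := 0
  T := lev0T
  info := field [lev0C] 6 63 28 268435455 0
  cnt := 57
theorem lev0_tree : allBelow (lev0.checkTree L) 57 = true := by decide +kernel
theorem lev0_ok : lev0.OK L [] where
  hb := by decide
  letters := by decide +kernel
  fix := by decide +kernel
  tree := allBelow_iff.mp lev0_tree
  count := by decide +kernel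
noncomputable def lev1C : Tr := .leaf 0xd8100c1d0000a1c8000b1c0100a1cc10091b400081c4200a1bc00091b800091b410081a42008174200719c000a1b0100b1900007198000719400091cc200915c20061a41008170200617c00081981007164100619010071741007188000814c0006150100516000071481004154000514c1006168000513c0004148200414400041582005140000312c20031082002140100312410061380007118100611c000211c1002150200512c100310420011100005120000410c200412800031040001104000010000000
def lev1T : List (List ℕ) := [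
  [7, 1],
  [9, 1],
  [4, 7, 3, 5]]
noncomputable def lev1 : Lev where
  b := 1
  T := lev1T
  info := field [lev1C] 6 63 28 268435455 0
  cnt := 56
theorem lev1_tree : allBelow (lev1.checkTree L) 57 = true := by decide +kernel
theorem lev1_ok : lev1.OK L [0] where
  hb := by decide
  letters := by decide +kernel
  fix := by decide +kernel
  tree := allBelow_iff.mp lev1_tree
  count := by decide +kernel
noncomputable def lev2C : Tr := .leaf 0xc800061d410041e000071a420031b400051dc00051b410051d000061d400041cc00061c0000518820041ac00071cc200619000041a0000210820011b0000817800091ac1007180000310000000a4000315400051a010021dc200519400081000000044000617c000614000081802003100000000000000d020061640004164100416c000710000000500005158000710000000a820051380006110000511400071101005134000711c000810c000713000061280006190200413810061080000100000000000000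
def lev2T : List (List ℕ) := [
  [7, 1, 4, 7, 3, 5, 9, 1, 4, 7, 3, 5, 0, 8, 4, 2, 6, 5],
  [7, 1, 4, 7, 3, 5, 7, 1, 4, 7, 3, 5, 9, 1, 4, 2, 6, 5, 0, 6, 4, 2, 6, 5, 0, 6],
  [4, 7, 3, 5, 9, 1, 7, 1, 4, 7, 3, 5, 7, 1, 9, 1, 7, 8, 0, 6, 4, 2, 6, 5, 0, 6, 0, 8, 4, 2, 6, 5]]
noncomputable def lev2 : Lev where
  b := 2
  T := lev2T
  info := field [lev2C] 6 63 28 268435455 0
  cnt := 49
theorem lev2_tree : allBelow (lev2.checkTree L) 57 = true := by decide +kernel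
theorem lev2_ok : lev2.OK L [1, 0] where
  hb := by decide
  letters := by decide +kernel
  fix := by decide +kernel
  tree := allBelow_iff.mp lev2_tree
  count := by decide +kernel
noncomputable def lev3C : Tr := .leaf 0x180004110000610c100110c000111c000313000021181004130100211c10031200005120100510c00001000000000000000000000
def lev3T : List (List ℕ) := [
  [4, 7, 3, 5, 9, 1, 7, 1, 4, 7, 3, 5, 7, 1, 9, 1, 7, 8, 0, 6, 4, 2, 6, 5, 0, 6, 0, 8, 4, 2, 6, 5, 7, 1, 4, 7, 3, 5, 9, 1, 4, 7, 3, 5, 0, 8, 4, 2, 6, 5, 7, 1, 4, 7, 3, 5, 9, 1, 4, 7, 3, 5, 7, 1, 4, 7, 3, 5, 7, 1, 9, 1, 7, 8, 0, 6, 4, 2, 6, 5, 0, 6, 0, 8, 4, 2, 6, 5, 7, 1, 4, 7, 3, 5, 7, 1, 4, 7, 3, 5, 9, 1, 4, 2, 6, 5, 0, 6, 4, 2, 6, 5, 0, 6, 4, 7, 3, 5, 9, 1, 7, 1, 4, 7, 3, 5, 7, 1, 9, 1, 7, 8, 0, 6, 4, 2, 6, 5, 0, 6, 4, 2, 6, 5, 0, 8, 4, 2, 6, 5, 0, 6, 4, 7, 3, 5, 9, 1, 7, 1, 4, 7, 3, 5, 7, 1, 9, 6, 0, 8, 0, 6, 4, 2, 6, 5, 0, 6, 4, 2, 6, 5, 0, 8, 4, 2, 6, 5,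 0, 6, 4, 7, 3, 5, 9, 1, 7, 1, 4, 7, 3, 5, 7, 1, 9, 6, 0, 8, 0, 6, 4, 2, 6, 5, 0, 6, 0, 8, 4, 2, 6, 5],
  [4, 7, 3, 5, 9, 1, 7, 1, 4, 7, 3, 5, 7, 1, 9, 1, 7, 8, 0, 6, 4, 2, 6, 5, 0, 6, 0, 8, 4, 2, 6, 5, 7, 1, 4, 7, 3, 5, 9, 1, 4, 7, 3, 5, 7, 1, 4, 7, 3, 5, 7, 1, 9, 1, 7, 8, 0, 6, 4, 2, 6, 5, 0, 6, 0, 8, 4, 2, 6, 5, 7, 1, 4, 7, 3, 5, 9, 1, 4, 7, 3, 5, 0, 8, 4, 2, 6, 5, 7, 1, 4, 7, 3, 5, 7, 1, 4, 7, 3, 5, 9, 1, 4, 2, 6, 5, 0, 6, 9, 1, 4, 7, 3, 5, 7, 1, 4, 7, 3, 5, 7, 1, 9, 6, 0, 8, 0, 6, 4, 2, 6, 5, 0, 6, 4, 2, 6, 5, 0, 8, 4, 2, 6, 5, 0, 6, 4, 7, 3, 5, 9, 1, 7, 1, 4, 7, 3, 5, 7, 1, 9, 6, 0, 8, 0, 6, 4, 2, 6, 5, 0, 6, 0, 8, 4, 2, 6, 5, 7, 1, 4, 7, 3, 5, 7, 1, 4, 7, 3, 5, 0, 8, 4, 2, 6, 5, 0, 6, 4, 2, 6, 5, 0, 6, 4, 7, 3, 5, 9, 1, 7, 1, 4, 7, 3, 5, 7, 1, 9, 6, 0, 8, 0, 6, 4, 2, 6, 5, 0, 6, 0, 8, 4, 2, 6, 5]]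
noncomputable def lev3 : Lev where
  b := 3
  T := lev3T
  info := field [lev3C] 6 63 28 268435455 0
  cnt := 12
theorem lev3_tree : allBelow (lev3.checkTree L) 57 = true := by decide +kernel
theorem lev3_ok : lev3.OK L [2, 1, 0] where
  hb := by decide
  letters := by decide +kernel
  fix := by decide +kernel
  tree := allBelow_iff.mp lev3_tree
  count := by decide +kernel
noncomputable def levels : List Lev := [lev0, lev1, lev2, lev3]
theorem chain_ok : chainOK L [] levels := ⟨lev0_ok, lev1_ok, lev2_ok, lev3_ok, trivial⟩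
theorem levels_prod : (levels.map Lev.cnt).prod = 1876896 := by decide +kernel

end Cfsg.Agent.Lib.Helper28.L37p57
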