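import Cfsg.Agent.Lib.Helper28.TCChain
import Cfsg.Agent.Lib.Helper28.L37pPD

set_option autoImplicit false
set_option maxRecDepth 100000

namespace Cfsg.Agent.Lib.Helper28.L37pL2

open Cfsg.Agent.Lib.Helper28

noncomputable def tabC0 : Tr := .leaf 0xdcb0dcbaa3e1221b8b4478682722c091e60819655152340da461081388a63006411020
noncomputable def auxC0 : Tr := .leaf 0xdd756e93505d8b016c2e4570b3158d80088a001e2a8548a814e2b0558a314c290500021422801
noncomputable def tabC1 : Tr := .leaf 0xc0f93a8f4fdbac188722985e181ae0716809252340da461162508c1204a53806310c20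
noncomputable def auxC1 : Tr := .leaf 0xb09b4262650d2104608614722e416400049000228188308c596b2954a83446804800002002001
noncomputable def tabC2 : Tr := .leaf 0xe4aa1c2b30d26669336081ef0b2d81a214140568881a7780a5700c5399241046420020
noncomputable def auxC2 : Tr := .leaf 0xd95432e560ac9504a2500072562aa52cc998930e628a000c280010a000348c620a09822800001
noncomputable def tabC3 : Tr := .leaf 0xe46a1c232fd266f92b62826e7b2d81a214140566889a7788a3708c7399241046320820
noncomputable def auxC3 : Tr := .leaf 0xb4942e726aaca76261068b79762ea9acb99692ce5989816c4dc58c969652cc5a1309602465801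
noncomputable def tabC4 : Tr := .leaf 0xb86cda066188780db5e1d032069700596a04a24438604305c72058050065400a408440
noncomputable def auxC4 : Tr := .leaf 0xb0753a61c83806003473830000018700051c0010744e306f38a1b4e1860000008e00043801800
noncomputable def tabC5 : Tr := .leaf 0xb86cca066188782db1e1d0b2268f0258ea249a4438604305c72058250863408a408442
noncomputable def auxC5 : Tr := .leaf 0xb0549e61482805b0b54b82c8580966dc249b408ebc4f304f3ca11d9184b092104d38443c01042
noncomputable def tabC6 : Tr := .leaf 0xe4307aab2ddb6ee8b34b7a66b606cb5068a40ce1900c180081721a0580414802128060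
noncomputable def auxC6 : Tr := .leaf 0xdbb4628ee1dd3b08a03e5d73b27563d6148f374ec18700051c000c74340000004700001c00000
noncomputable def tabC7 : Tr := .leaf 0xe3f0caab2cda2ef8b3497a66a606cd50688424e1908c180881711a2588414882128862
noncomputable def auxC7 : Tr := .leaf 0xb474a271ca3d0d61a0366573d37d6354648d370e318688c519e30c668cc194304640c01883086
noncomputable def tabC8 : Tr := .leaf 0
noncomputable def auxC8 : Tr := .leaf 0
noncomputable def dC : Tr := .leaf 0xb0940a6248480900600384702e01632c248c908e1186308518a20c61883046004608401802000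
noncomputable def tabCols : List Tr := [tabC0, tabC1, tabC2, tabC3, tabC4, tabC5, tabC6, tabC7, tabC8]
noncomputable def auxCols : List Tr := [auxC0, auxC1, auxC2, auxC3, auxC4, auxC5, auxC6, auxC7, auxC8]
def pairsC : List ((List ℕ × ℕ × List ℕ) × ℕ) := [
  (([4], 5, []), 16384),
  (([4], 4, []), 2048),
  (([4], 1, [0, 5]), 5122),
  (([1], 0, []), 12290),
  (([6], 7, []), 18432),
  (([6], 6, []), 3072),
  (([6], 1, [0, 7]), 6146),
  (([6], 3, [2, 7]), 8194),
  (([3], 2, []), 14338),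
  (([2], 3, []), 14336),
  (([2], 2, []), 1024),
  (([6], 5, [4, 7]), 9218),
  (([5], 4, []), 16386),
  (([5], 5, []), 2049),
  (([0], 1, []), 12288),
  (([1], 1, [0]), 1),
  (([1], 2, [3, 0, 3, 0]), 4096),
  (([3], 3, []), 1025),
  (([4, 1, 4], 1, []), 5122),
  (([6, 1, 6], 1, []), 6146),
  (([1, 1], 1, []), 1),
  (([2], 5, [4, 7, 3, 4, 3, 4, 3]), 10244),
  (([2], 6, [4, 3, 4, 3, 4, 3, 4]), 10256),
  (([2, 5, 2, 5, 2, 5, 2], 5, [7]), 11265),
  (([5, 2], 6, [3, 4, 3, 4, 3, 4]), 10254),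
  (([5], 0, [1, 4]), 5121),
  (([2, 7, 2], 7, []), 8195),
  (([7], 6, []), 18434),
  (([7], 7, []), 3073),
  (([7, 0], 7, [1]), 6145),
  (([0], 3, [2, 1, 2, 1]), 4099),
  (([3, 6, 3], 6, []), 8192),
  (([1], 6, [7, 0]), 6144),
  (([4], 7, [6, 5]), 9219),
  (([4], 3, [2, 6, 5, 2, 5, 2, 5]), 10257),
  (([3, 4, 3, 4, 3, 4, 3, 4], 7, []), 10241),
  (([7], 0, [1, 6]), 6145),
  (([2], 5, [4, 3, 4, 3, 4, 3, 4, 3, 4, 3, 4, 3, 4, 3]), 7171),
  (([2], 7, [6, 3]), 8195),
  (([6, 5, 6], 5, []), 9218),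
  (([0, 3, 0], 3, [2, 1]), 4099),
  (([3], 0, [1, 2, 1, 2]), 4097),
  (([], 8, []), 21504)]
def subL : List ℕ := [0, 1, 2, 3]
noncomputable def D : UB where
  tab := field tabCols 6 63 10 1023
  aux := field auxCols 6 63 11 2047
  dinfo := field [dC] 6 63 11 2047 0
  rb := 5
  RM := 31
  pb := 6
  PM := 63
  m := 28
  K := 8
  Kall := 9
  pairs := pairsC.map Prod.fst
  isSub := fun x => subL.contains x
  fuel := 64
def ren : ℕ → ℕ
  | 0 => 0
  | 1 => 1
  | 2 => 2
  | 3 => 3
  | 4 => 4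
  | 5 => 5
  | 6 => 8
  | 7 => 9
  | _ => 0
def invL : ℕ → ℕ
  | 0 => 1
  | 1 => 0
  | 2 => 3
  | 3 => 2
  | 4 => 5
  | 5 => 4
  | 6 => 7
  | 7 => 6
  | x => x
def relsL : List (List ℕ) := [
  [0, 0, 0],
  [2, 2],
  [4, 4],
  [6, 6],
  [1, 2, 1, 2, 1, 2],
  [1, 4, 1, 4],
  [1, 6, 1, 6],
  [3, 4, 3, 4, 3, 4, 3, 4, 3, 4, 3, 4, 3, 4, 3, 4],
  [3, 6, 3, 6],
  [5, 6, 5, 6],
  [6, 5, 2, 5, 2, 5, 2, 5, 2],
  [7, 4, 3, 4, 3, 4, 3, 4, 3]]
noncomputable def Lk : Link where
  D := D
  ren := ren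
  inv := invL
  rels := relsL
  pairsC := pairsC
  subL := subL
  n := 28
theorem chk_0 : allRange D.checkLabel 0 28 = true := by decide +kernel
theorem check_all : ∀ c < D.m, D.checkLabel c = true := by
  intro c hc
  have hc' : c < 28 := hc
  by_cases h0 : c < 28
  · exact allRange_iff.mp chk_0 c (by omega) (by omega)
  omega
theorem pairs_ok : pairsC.all (pairOK (relsAll relsL invL 9) invL 8 9) = true := by decide +kernel
theorem relsK_ok : ∀ r ∈ relsAll relsL invL 9, ∀ y ∈ r, y < 9 := by decide +kernel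
theorem core : Lk.Core (Cfsg.Agent.Lib.Helper28.L37pPD.pd.words) Cfsg.Agent.Lib.Helper28.L37pPD.pd.inv Cfsg.Agent.Lib.Helper28.L37pPD.pd.K [0, 1, 2, 3] where
  Kall := rfl
  invK := by decide +kernel
  invE := rfl
  relsIn := by decide +kernel
  Dpairs := rfl
  pairs := pairs_ok
  relsK := relsK_ok
  isSub := by
    intro x hx
    have hx' : subL.contains x = true := hx
    show x ∈ subL
    simpa using hx'
  sub := by decide +kernel
  check := check_all
theorem fin_all : allBelow D.finalLabel 28 = true := by decide +kernel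
theorem live_count : D.liveCount = 28 := by decide +kernel
theorem h0_ok : D.tg D.K 0 = 0 := by decide +kernel
theorem ok : Lk.OK (Cfsg.Agent.Lib.Helper28.L37pPD.pd.words) Cfsg.Agent.Lib.Helper28.L37pPD.pd.inv Cfsg.Agent.Lib.Helper28.L37pPD.pd.K [0, 1, 2, 3, 4, 5, 8, 9] [0, 1, 2, 3] where
  toCore := core
  gens := by decide +kernel
  hm := by decide
  h0 := h0_ok
  fin := allBelow_iff.mp fin_all
  count := live_count

end Cfsg.Agent.Lib.Helper28.L37pL2

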