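import Cfsg.Agent.Lib.Helper28.M11pPD

set_option autoImplicit false
set_option maxRecDepth 100000

namespace Cfsg.Agent.Lib.Helper28.M11p11

open Cfsg.Agent.Lib.Helper28
noncomputable def tabC0 : Tr := .leaf 0x70b4600f050ad980714224022131088c6050
noncomputable def auxC0 : Tr := .leaf 0x6b18c000004b10d000cc0ac00020a60106600000
noncomputable def tabC1 : Tr := .leaf 0x34400f250add847142a480011000848462
noncomputable def auxC1 : Tr := .leaf 0x183001c348d4358cc338d03000030002318ca3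
noncomputable def tabC2 : Tr := .leaf 0x7c42400b270245a0a0390440060001010020
noncomputable def auxC2 : Tr := .leaf 0x6b9ef0012a00109000000a809000000000000000
noncomputable def tabC3 : Tr := .leaf 0x42582a10034d22b010a0ca253188cc2270
noncomputable def auxC3 : Tr := .leaf 0x1e2589220018240800088e2208a71086700800
noncomputable def tabC4 : Tr := .leaf 0x7d001b60056000000000000a400190000000
noncomputable def auxC4 : Tr := .leaf 0x7c0007c4006c8000000000000294001940000000
noncomputable def tabC5 : Tr := .leaf 0x10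
noncomputable def auxC5 : Tr := .leaf 0x1
noncomputable def tabC6 : Tr := .leaf 0
noncomputable def auxC6 : Tr := .leaf 0
noncomputable def tabC7 : Tr := .leaf 0x10
noncomputable def auxC7 : Tr := .leaf 0x1
noncomputable def tabC8 : Tr := .leaf 0
noncomputable def auxC8 : Tr := .leaf 0
noncomputable def dC : Tr := .leaf 0x680c016124248080d0118008400c8100010410001000
noncomputable def tabCols : List Tr := [tabC0, tabC1, tabC2, tabC3, tabC4, tabC5, tabC6, tabC7, tabC8]
noncomputable def auxCols : List Tr := [auxC0, auxC1, auxC2, auxC3, auxC4, auxC5, auxC6, auxC7, auxC8]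
def pairsC : List ((List ℕ × ℕ × List ℕ) × ℕ) := [
  (([2], 3, []), 9216),
  (([0], 1, []), 7168),
  (([2, 0, 2], 0, [5, 2]), 5120),
  (([], 4, [0, 0]), 1),
  (([4], 0, [0]), 7168),
  (([4], 3, [3]), 9218),
  (([0, 2], 0, [7]), 6144),
  (([3], 2, []), 9218),
  (([2], 2, [3, 3]), 1024),
  (([2], 0, [1, 4, 2, 4, 1, 3, 1, 4, 3, 1, 2, 1, 4, 2, 4, 1, 3, 1, 4, 2, 4, 1, 3, 3]), 4110),
  (([0], 0, []), 0),
  (([3], 0, [1, 3, 1, 3, 1, 4, 2, 4, 1, 2, 1, 3, 1, 4, 2, 4, 1, 3, 3, 1, 3]), 4106),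
  (([0], 2, [3, 1, 3, 1, 3, 1, 3, 1, 4, 3, 1, 3, 1, 4, 3, 1, 3, 1, 3, 1, 3, 1]), 2048),
  (([2, 0, 2, 2, 0, 2, 2, 0, 2, 4, 2, 4, 0, 2, 2, 0, 2, 2, 0], 2, []), 3076),
  (([], 4, [2, 0, 3, 0, 2, 0, 2, 2, 0, 3, 0, 2, 0, 3, 0, 3, 0, 2, 0]), 4103),
  (([0], 4, [4, 0]), 7168),
  (([3], 4, [4, 3]), 9218),
  (([], 4, []), 16384)]
def subL : List ℕ := [5, 6, 7, 8]
noncomputable def D : UB where
  tab := field tabCols 6 63 9 511
  aux := field auxCols 6 63 10 1023
  dinfo := field [dC] 6 63 11 2047 0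
  rb := 4
  RM := 15
  pb := 5
  PM := 31
  m := 16
  K := 4
  Kall := 9
  pairs := pairsC.map Prod.fst
  isSub := fun x => subL.contains x
  fuel := 64
noncomputable def ptC0 : Tr := .leaf 0xab984637512
noncomputable def ptC1 : Tr := .leaf 0xab984637512
noncomputable def ptC2 : Tr := .leaf 0xb97a8451623
noncomputable def ptC3 : Tr := .leaf 0xb8a79356124
noncomputable def treeC : Tr := .leaf 0x24070983608c02088000c0200000
noncomputable def ptCols : List Tr := [ptC0, ptC1, ptC2, ptC3]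
noncomputable def L : LB where
  pt := field ptCols 6 63 4 15
  n := 11
  K := 4
  inv := Cfsg.Agent.Lib.Helper28.M11pPD.inv
  tree := field [treeC] 6 63 10 1023 0
def sigE : List WExp := [(.mul (.mul (.mul (.mul (.g 2) (.g 0)) (.g 2)) (.g 0)) (.inv (.g 2))), (.mul (.mul (.g 0) (.g 2)) (.g 0))]
def subE : List WExp := [(.mul (.mul (.mul (.mul (.g 2) (.g 0)) (.g 2)) (.g 0)) (.inv (.g 2))), (.mul (.mul (.g 0) (.g 2)) (.g 0))]
noncomputable def Q : Prob Cfsg.Agent.Lib.Helper28.M11pDef.Gen where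
  P := Cfsg.Agent.Lib.Helper28.M11pPD.pd
  D := D
  L := L
  sigE := sigE
  subE := subE
  pairsC := pairsC
  n := 11

end Cfsg.Agent.Lib.Helper28.M11p11
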