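import Cfsg.Agent.Lib.Helper28.TCChain
import Cfsg.Agent.Lib.Helper28.ONPD

set_option autoImplicit false
set_option maxRecDepth 100000

namespace Cfsg.Agent.Lib.Helper28.ON122760Coll

open Cfsg.Agent.Lib.Helper28

noncomputable def tabC0 : Tr := .leaf 0x36c0005840000000000000101000000000000000000000000000000000244000000009d2000000000013003200000000000320500084a0040
noncomputable def auxC0 : Tr := .leaf 0x52b000140c00000000000000003830000000000000000000000000000000000000000c88000000000981800000000000000008180000000000000000000000c000000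
noncomputable def tabC1 : Tr := .leaf 0x8200000000000000000000000000000014b400000000000000000000000000000000000000001380208008400000034054000010860
noncomputable def auxC1 : Tr := .leaf 0x1448000000000000000000000000000000000005008000000000000000000000000000000000000000000000000000010400000000000000000000000004000
noncomputable def tabC2 : Tr := .leaf 0x310000004057ca00000000001218000000000000000000038800000000000000000cc00000000000104921430000000000004281cb0080
noncomputable def auxC2 : Tr := .leaf 0x5898000000494249800000000000046100000000000000000000000065000000000000000000000478000000000000021080848b00000000000000021e10000000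
noncomputable def tabC3 : Tr := .leaf 0x1ca2c200000000000504000000000000012220438800000000000000000000000000000000000000083402303a3706d8c00021000880c00a0
noncomputable def auxC3 : Tr := .leaf 0x52a28280000000000001214000000000000000021810b88580000000000000000000000000000000000000000000000428000000e056c2b4140000050000000000000
noncomputable def tabC4 : Tr := .leaf 0x3ab5d000000225000708000000004888152c0000000000000141c0000000028830ca6956002318001c43ae403e378660c10a63580900d00c0
noncomputable def auxC4 : Tr := .leaf 0x52c583000000049000012380000000000a6853340600000000000000004e7c000000000044020d206413800220c000047169c000f06743161800c9060000000000000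
noncomputable def tabC5 : Tr := .leaf 0x1610000000014100000080919244000000000000006100000020400000000000000000000000000000148250403880085a1b605c0980e00e0
noncomputable def auxC5 : Tr := .leaf 0x5070000000000487000000070f0a818d8000000000000000042a000000061c000000000000000000000000000000000000000000f87000001d90e0000000000000000
noncomputable def tabC6 : Tr := .leaf 0x43a000000000000000000000000000000000000000000000000000000000000000000042001e0380600000f0100
noncomputable def auxC6 : Tr := .leaf 0x104000000000000000000000000000000000000000000000000000000000000000000000000000000000400000000000000000000000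
noncomputable def tabC7 : Tr := .leaf 0x44c000002e358600000000000304000000000000000000000000000000000000000000000000000019441021001001f03a028600100120
noncomputable def auxC7 : Tr := .leaf 0x28e000000049e24e80000000000000a240000000000000000000000000000000000000000000000000000000000000023411400900000000000002448000000000
noncomputable def tabC8 : Tr := .leaf 0xaf092220954a025b1821c4204985318726e626cc0d717122e6a8172092d20cd2020a366168181732d41541a0940b61484689206c1501e000
noncomputable def auxC8 : Tr := .leaf 0xe259d1ac81343243792450c77d0433d4d0b456143111850c855f4330d84e9634d32299088d91873a611bc0fe85c2389d202f04727ba1e0b4d5e4cd3429e9eec784000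
noncomputable def dC : Tr := .leaf 0x2852832812802452442431c51c11871471461071061051011000c60c50c40c10c0085084083047046045044043042040007006005004003002001000000
noncomputable def tabCols : List Tr := [tabC0, tabC1, tabC2, tabC3, tabC4, tabC5, tabC6, tabC7, tabC8]
noncomputable def auxCols : List Tr := [auxC0, auxC1, auxC2, auxC3, auxC4, auxC5, auxC6, auxC7, auxC8]
def pairsC : List ((List ℕ × ℕ × List ℕ) × ℕ) := [
  (([0], 1, []), 29696),
  (([1], 0, []), 29698),
  (([2], 2, []), 0),
  (([3], 3, []), 1024),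
  (([4], 4, []), 2048),
  (([5], 5, []), 3072),
  (([6], 6, []), 4096),
  (([7], 7, []), 5120),
  (([0], 7, [1, 2]), 21511),
  (([7, 2, 7], 2, []), 10241),
  (([2], 0, [7, 1]), 21507),
  (([2], 7, [0, 0]), 21504),
  (([3], 4, [1, 5]), 28672),
  (([7], 2, [2, 7]), 10241),
  (([5], 4, [0, 3]), 28679),
  (([0], 0, [2, 7]), 21505),
  (([1], 1, [7, 2]), 21508),
  (([4], 2, [2, 4]), 7169),
  (([5], 2, [2, 5]), 8193),
  (([1], 5, [3, 4]), 28673),
  (([5], 3, [3, 5]), 12289),
  (([6], 3, [3, 6]), 13313),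
  (([7], 3, [3, 7]), 14337),
  (([6], 4, [4, 6]), 16385),
  (([7], 4, [4, 7]), 17409),
  (([7], 5, [5, 7]), 19457),
  (([3], 7, [7, 3]), 14336),
  (([4], 7, [7, 4]), 17408),
  (([5], 7, [7, 5]), 19456),
  (([7, 4, 7], 4, []), 17409),
  (([4, 3, 1], 8, [5]), 28677),
  (([8, 0], 8, [0]), 29696),
  (([8, 1], 8, [1]), 29698),
  (([], 8, [2, 3, 2, 3, 2, 3]), 6145),
  (([2], 8, [8, 2]), 0),
  (([4], 8, [8, 4]), 2048),
  (([7], 8, [8, 7]), 5120),
  (([8], 4, [4]), 2048),
  (([8], 5, [5]), 3072),
  (([4, 2], 8, [2, 4]), 7169),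
  (([5], 3, [3, 8, 5]), 12289),
  (([5], 0, [4, 3]), 28676),
  (([5], 4, [0, 8, 3]), 28679),
  (([4, 3, 4], 8, [3, 4, 3]), 11265),
  (([3], 8, [8, 3]), 1024),
  (([5], 8, [8, 5, 8]), 3072),
  (([6], 8, [8, 6]), 4096),
  (([4], 8, [5, 7, 2, 4, 5, 4, 8, 5, 8, 4, 5]), 22534),
  (([0], 8, [8, 0]), 29696),
  (([8, 5, 8], 8, [5]), 3072),
  (([1, 8], 8, [8, 8, 1, 8]), 29698),
  (([3], 8, [8, 8, 3, 8]), 1024),
  (([4], 8, [8, 4, 8]), 2048),
  (([8, 1, 8], 8, [1, 8]), 29698),
  (([8, 5, 8], 8, [5, 8, 8]), 3072),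
  (([8, 7], 8, [7, 8, 8]), 5120),
  (([8, 8, 0, 8], 8, [0, 8]), 29696),
  (([2], 8, [8, 8, 2]), 0),
  (([4, 8, 0, 8, 8, 4, 8, 3, 8, 0, 8, 3, 8, 4, 8, 0, 8, 8, 4, 8, 0, 3, 8], 8, []), 26628),
  (([0, 8, 8], 8, [8, 0, 8]), 29696),
  (([4, 8, 8, 5], 8, [3, 8, 8, 1]), 28674),
  (([5, 1, 5, 6, 1, 8, 6], 8, [0, 6, 5, 8, 0, 8, 5, 8]), 27649),
  (([5, 1, 5, 6, 1, 8, 5, 8, 1, 8, 5, 8, 6, 1], 6, []), 27659),
  (([], 8, [5, 8, 6, 5, 6, 5, 8, 6, 8]), 18433),
  (([8, 6, 8], 8, [6]), 4096),
  (([], 8, []), 38912)]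
def subL : List ℕ := []
noncomputable def D : UB where
  tab := field tabCols 6 63 11 2047
  aux := field auxCols 6 63 13 8191
  dinfo := field [dC] 6 63 12 4095 0
  rb := 5
  RM := 31
  pb := 7
  PM := 127
  m := 41
  K := 8
  Kall := 9
  pairs := pairsC.map Prod.fst
  isSub := fun x => subL.contains x
  fuel := 64
def ren : ℕ → ℕ
  | 0 => 0
  | 1 => 1
  | 2 => 2
  | 3 => 3
  | 4 => 4
  | 5 => 5
  | 6 => 6
  | 7 => 7
  | _ => 0
def invL : ℕ → ℕ
  | 0 => 1
  | 1 => 0
  | 2 => 2
  | 3 => 3
  | 4 => 4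
  | 5 => 5
  | 6 => 6
  | 7 => 7
  | x => x
def relsL : List (List ℕ) := [
  [2, 2],
  [3, 3],
  [4, 4],
  [5, 5],
  [6, 6],
  [7, 7],
  [2, 3, 2, 3, 2, 3],
  [2, 4, 2, 4],
  [2, 5, 2, 5],
  [2, 6, 2, 6],
  [2, 7, 2, 7],
  [3, 4, 3, 4, 3, 4],
  [3, 5, 3, 5],
  [3, 6, 3, 6],
  [3, 7, 3, 7],
  [4, 5, 4, 5, 4, 5, 4, 5, 4, 5, 4, 5, 4, 5, 4, 5],
  [4, 6, 4, 6],
  [4, 7, 4, 7],
  [5, 6, 5, 6, 5, 6],
  [5, 7, 5, 7],
  [6, 7, 6, 7, 6, 7],
  [2, 7, 1, 1],
  [2, 7, 5, 4, 5, 4, 5, 4, 5, 4],
  [4, 1, 5, 1, 5, 4, 5, 0, 5, 0],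
  [5, 1, 4, 1, 4, 5, 4, 0, 4, 0],
  [3, 4, 5, 0, 3, 4, 5, 0, 3, 4, 5, 0, 3, 4, 5, 0, 3, 4, 5, 0],
  [0, 3, 4, 0, 4, 3, 0, 3, 4, 0, 4],
  [0, 6, 5, 0, 5, 6, 0, 6, 5, 0, 5],
  [3, 4, 5, 0]]
noncomputable def Lk : Link where
  D := D
  ren := ren
  inv := invL
  rels := relsL
  pairsC := pairsC
  subL := subL
  n := 1
theorem chk_0 : allRange D.checkLabel 0 41 = true := by decide +kernel
theorem check_all : ∀ c < D.m, D.checkLabel c = true := by
  intro c hc
  have hc' : c < 41 := hc
  by_cases h0 : c < 41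
  · exact allRange_iff.mp chk_0 c (by omega) (by omega)
  omega
theorem pairs_ok : pairsC.all (pairOK (relsAll relsL invL 9) invL 8 9) = true := by decide +kernel
theorem relsK_ok : ∀ r ∈ relsAll relsL invL 9, ∀ y ∈ r, y < 9 := by decide +kernel
theorem core : Lk.Core (Cfsg.Agent.Lib.Helper28.ONPD.pd.words ++ [[3, 4, 5, 0]]) Cfsg.Agent.Lib.Helper28.ONPD.pd.inv Cfsg.Agent.Lib.Helper28.ONPD.pd.K [] where
  Kall := rfl
  invK := by decide +kernel
  invE := rfl
  relsIn := by decide +kernel
  Dpairs := rfl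
  pairs := pairs_ok
  relsK := relsK_ok
  isSub := by
    intro x hx
    have hx' : subL.contains x = true := hx
    show x ∈ subL
    simpa using hx'
  sub := by decide +kernel
  check := check_all
theorem fin_all : allBelow D.finalLabel 41 = true := by decide +kernel
theorem live_count : D.liveCount = 1 := by decide +kernel
theorem h0_ok : D.tg D.K 0 = 0 := by decide +kernel
theorem ok : Lk.OK (Cfsg.Agent.Lib.Helper28.ONPD.pd.words ++ [[3, 4, 5, 0]]) Cfsg.Agent.Lib.Helper28.ONPD.pd.inv Cfsg.Agent.Lib.Helper28.ONPD.pd.K [0, 1, 2, 3, 4, 5, 6, 7] [] where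
  toCore := core
  gens := by decide +kernel
  hm := by decide
  h0 := h0_ok
  fin := allBelow_iff.mp fin_all
  count := live_count

end Cfsg.Agent.Lib.Helper28.ON122760Coll

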