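import Cfsg.Agent.Lib.Helper28.TCChain
import Cfsg.Agent.Lib.Helper28.ONPD

set_option autoImplicit false
set_option maxRecDepth 100000

namespace Cfsg.Agent.Lib.Helper28.ONL3

open Cfsg.Agent.Lib.Helper28

noncomputable def tabC0 : Tr := .leaf 0xdbf90a870ecbe6ba1340b16ec80de39122458942611c368cc140ce3480a22086110420
noncomputable def auxC0 : Tr := .leaf 0xc636ea3a6ac3a0680c00abace6198a8ba0e41903329ae638ae19863000260a80600c01
noncomputable def tabC1 : Tr := .leaf 0xc86c2bb780a0b4ed8e21c0de1916a061e60711a4821023892358d43204a23006110420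
noncomputable def auxC1 : Tr := .leaf 0xc3284a3c009132cd320cbb1cc61c0049c0041d047b0a7290af5312c1b0270000701001
noncomputable def tabC2 : Tr := .leaf 0xdb78ed1a81b3242c36a5c8209b8da19a94171220385637812328980309031046120020
noncomputable def auxC2 : Tr := .leaf 0xc3769a426995608ba60d001cdb25899252942000324a8000b01a0001b4e90a40800001
noncomputable def tabC3 : Tr := .leaf 0xd3ea1e42ed9872e887607870070ac058a8090d2141203305a06148150062380a308440
noncomputable def auxC3 : Tr := .leaf 0xc6682d8a7190b02808007080062c004ac0088902345e228800588620002b0008200800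
noncomputable def tabC4 : Tr := .leaf 0xdbf90abecea3221cbf4ec35eb686e05066a48640394c1801c020586580414002128060
noncomputable def auxC4 : Tr := .leaf 0xc6b65a167695205c1737b95c5614004965341400348a50000019565000250000500000
noncomputable def tabC5 : Tr := .leaf 0
noncomputable def auxC5 : Tr := .leaf 0
noncomputable def dC : Tr := .leaf 0xc0340e804c290701201c01706e058230248890902203304510a194018830c6084408401001800
noncomputable def tabCols : List Tr := [tabC0, tabC1, tabC2, tabC3, tabC4, tabC5]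
noncomputable def auxCols : List Tr := [auxC0, auxC1, auxC2, auxC3, auxC4, auxC5]
def pairsC : List ((List ℕ × ℕ × List ℕ) × ℕ) := [
  (([3], 3, []), 3072),
  (([3], 0, [0, 3]), 7169),
  (([3], 1, [1, 3]), 10241),
  (([4], 4, []), 4096),
  (([4], 0, [0, 4]), 8193),
  (([4], 1, [1, 4]), 11265),
  (([4], 2, [2, 4]), 13313),
  (([2], 2, []), 2048),
  (([2], 0, [0, 2]), 6145),
  (([4], 3, [3, 4]), 14337),
  (([1], 1, []), 1024),
  (([1], 2, [2, 1, 2, 1]), 9216),
  (([0], 0, []), 0),
  (([0], 1, [1, 0, 1, 0]), 5120),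
  (([0], 2, [2, 0]), 6144),
  (([2], 3, [3, 4, 0, 2, 3, 2, 3, 2]), 15366),
  (([2, 0], 4, [3, 2, 3, 2, 3, 2, 3]), 15378),
  (([2, 4, 2], 4, []), 13312),
  (([3], 4, [4, 3]), 14336),
  (([3], 2, [4, 0, 2, 3, 2, 3, 2, 3]), 15364),
  (([2], 4, [4, 2]), 13312),
  (([1, 4, 1], 4, []), 11264),
  (([1], 0, [0, 1, 0, 1]), 5121),
  (([1], 3, [3, 1]), 10240),
  (([1], 4, [4, 1]), 11264),
  (([], 5, []), 22528)]
def subL : List ℕ := [0, 1, 2]
noncomputable def D : UB where
  tab := field tabCols 6 63 10 1023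
  aux := field auxCols 6 63 10 1023
  dinfo := field [dC] 6 63 11 2047 0
  rb := 5
  RM := 31
  pb := 5
  PM := 31
  m := 28
  K := 5
  Kall := 6
  pairs := pairsC.map Prod.fst
  isSub := fun x => subL.contains x
  fuel := 64
def ren : ℕ → ℕ
  | 0 => 2
  | 1 => 3
  | 2 => 4
  | 3 => 5
  | 4 => 7
  | _ => 0
def relsL : List (List ℕ) := [
  [0, 0],
  [1, 1],
  [2, 2],
  [3, 3],
  [4, 4],
  [0, 1, 0, 1, 0, 1],
  [0, 2, 0, 2],
  [0, 3, 0, 3],
  [0, 4, 0, 4],
  [1, 2, 1, 2, 1, 2],
  [1, 3, 1, 3],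
  [1, 4, 1, 4],
  [2, 3, 2, 3, 2, 3, 2, 3, 2, 3, 2, 3, 2, 3, 2, 3],
  [2, 4, 2, 4],
  [3, 4, 3, 4],
  [0, 4, 3, 2, 3, 2, 3, 2, 3, 2]]
noncomputable def Lk : Link where
  D := D
  ren := ren
  inv := (fun x => x)
  rels := relsL
  pairsC := pairsC
  subL := subL
  n := 28
theorem chk_0 : allRange D.checkLabel 0 28 = true := by decide +kernel
theorem check_all : ∀ c < D.m, D.checkLabel c = true := by
  intro c hc
  have hc' : c < 28 := hc
  by_cases h0 : c < 28
  · exact allRange_iff.mp chk_0 c (by omega) (by omega)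
  omega
theorem pairs_ok : pairsC.all (pairOK (relsAll relsL (fun x => x) 6) (fun x => x) 5 6) = true := by decide +kernel
theorem relsK_ok : ∀ r ∈ relsAll relsL (fun x => x) 6, ∀ y ∈ r, y < 6 := by decide +kernel
theorem core : Lk.Core (Cfsg.Agent.Lib.Helper28.ONPD.pd.words) Cfsg.Agent.Lib.Helper28.ONPD.pd.inv Cfsg.Agent.Lib.Helper28.ONPD.pd.K [2, 3, 4] where
  Kall := rfl
  invK := by decide +kernel
  invE := rfl
  relsIn := by decide +kernel
  Dpairs := rfl
  pairs := pairs_ok
  relsK := relsK_ok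
  isSub := by
    intro x hx
    have hx' : subL.contains x = true := hx
    show x ∈ subL
    simpa using hx'
  sub := by decide +kernel
  check := check_all
theorem fin_all : allBelow D.finalLabel 28 = true := by decide +kernel
theorem live_count : D.liveCount = 28 := by decide +kernel
theorem h0_ok : D.tg D.K 0 = 0 := by decide +kernel
theorem ok : Lk.OK (Cfsg.Agent.Lib.Helper28.ONPD.pd.words) Cfsg.Agent.Lib.Helper28.ONPD.pd.inv Cfsg.Agent.Lib.Helper28.ONPD.pd.K [2, 3, 4, 5, 7] [2, 3, 4] where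
  toCore := core
  gens := by decide +kernel
  hm := by decide
  h0 := h0_ok
  fin := allBelow_iff.mp fin_all
  count := live_count

end Cfsg.Agent.Lib.Helper28.ONL3

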