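import Cfsg.Agent.Lib.Helper28.TCChain
import Cfsg.Agent.Lib.Helper28.SuzPD

set_option autoImplicit false
set_option maxRecDepth 100000

namespace Cfsg.Agent.Lib.Helper28.Suz1782Coll

open Cfsg.Agent.Lib.Helper28

noncomputable def tabC0 : Tr := .leaf 0x1211e2686c8d71800546001d30000000000000000000000404000baa6180000128c309021c43085108234660c0000024670010840
noncomputable def auxC0 : Tr := .leaf 0xd186892861234916000206800071800000000000000000000000000f82000429a504000000480820408d046022c11408930116080000002010000004000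
noncomputable def tabC1 : Tr := .leaf 0x84e7840000000000000000000000000001c20000000000000000000000204790c21453800000000000000000000e00002034c008400060
noncomputable def auxC1 : Tr := .leaf 0x8ce1c0c0000000000000000000000000000000018180000000000000000000000000060db7a10f087000000000000000000000000000000000783000000c000000
noncomputable def tabC2 : Tr := .leaf 0x22200098800000000000001410006080000000000000000000000001021c538c00000000186500007c600210041000a0c002c004278090080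
noncomputable def auxC2 : Tr := .leaf 0x7100001c6000000000000000004840001044000000000000000000000000000001920c8cc100000000000410000000782000000008400026100000000020000000000
noncomputable def tabC3 : Tr := .leaf 0x3c30a400000000000004e800000292800000000000001c40000000000000000000001400000000000002080000000000021000800a00a0
noncomputable def auxC3 : Tr := .leaf 0x382c014000000000000000139d000000283c0000000000000000109800000000000000000000000000000000000000000010a00000000000000050000000000000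
noncomputable def tabC4 : Tr := .leaf 0x1e17850a000000304000a08000000000000000040871000000000000000005280000000148000000906106200006c6d0c10ae0000880b00c0
noncomputable def auxC4 : Tr := .leaf 0x70638cce9000000028a000090c00000000000000000000a545280000000000000000000429c00000000000000000008c30218000000683321800c0000000000000000
noncomputable def tabC5 : Tr := .leaf 0xaa8000002c200000000000000809a400141000000000000004e90000003080000041e603a5083200003e0780085a0300500900c00e0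
noncomputable def auxC5 : Tr := .leaf 0x281c0000002838000000000000000070e3160004e680000000000000001328000000020e0000003a88000e070438000000000000001c0000000000000000000
noncomputable def tabC6 : Tr := .leaf 0x90e00000000a0c00000000000000c280000000000000000000000000000000000000061c0004100000230400042e81b0320540000d0100
noncomputable def auxC6 : Tr := .leaf 0x8c400000000009cd8000000000000000072e0000000000000000000000000000000000000000000003a8c000088000000000000000400000000000000000000000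
noncomputable def tabC7 : Tr := .leaf 0x50729622e073a78d918134a0d7de940f32eb4a2d8196b106000bd07a4d49a7a879a2016a0b4969a01de580571201dc0d4578360d80d017000
noncomputable def auxC7 : Tr := .leaf 0xea1496a4ad440ea09d9c50664b32f35c16e5d3e92a6de35063742b85e09cd09773300d8a8a517c841090ccb834064139b9504e6a4413988d00e6c23f49622c6764000
noncomputable def dC : Tr := .leaf 0x3843833813453422852462442422062051c51861811461451061051041020c60c50c1085084083082080046045044043042006005004003002001000000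
noncomputable def tabCols : List Tr := [tabC0, tabC1, tabC2, tabC3, tabC4, tabC5, tabC6, tabC7]
noncomputable def auxCols : List Tr := [auxC0, auxC1, auxC2, auxC3, auxC4, auxC5, auxC6, auxC7]
def pairsC : List ((List ℕ × ℕ × List ℕ) × ℕ) := [
  (([0], 0, []), 0),
  (([1], 1, []), 1024),
  (([2], 2, []), 2048),
  (([3], 3, []), 3072),
  (([4], 4, []), 4096),
  (([5], 5, []), 5120),
  (([6], 6, []), 6144),
  (([2], 0, [0, 2]), 8193),
  (([3], 0, [0, 3]), 9217),
  (([4], 0, [0, 4]), 10241),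
  (([5], 0, [0, 5]), 11265),
  (([6], 0, [0, 6]), 12289),
  (([3], 1, [1, 3]), 14337),
  (([4], 1, [1, 4]), 15361),
  (([4], 2, [2, 4]), 19457),
  (([5], 2, [2, 5]), 20481),
  (([6], 2, [2, 6]), 21505),
  (([5], 3, [3, 5]), 23553),
  (([5], 4, [4, 5]), 25601),
  (([6], 4, [4, 6]), 26625),
  (([6], 5, [0, 5, 6]), 29698),
  (([5], 6, [6, 5, 6, 5, 6, 5]), 27648),
  (([1], 2, [2, 1, 2, 1]), 13312),
  (([3], 4, [2, 1, 6, 5]), 33796),
  (([4, 5, 4], 5, []), 25600),
  (([4, 6, 4], 6, []), 26624),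
  (([6], 1, [5, 4, 3, 2]), 33802),
  (([1], 3, [3, 1]), 14336),
  (([2, 1, 6, 5, 4], 3, []), 33797),
  (([], 7, [3, 4, 3, 4, 3, 4]), 22529),
  (([7, 0], 7, [0]), 0),
  (([3], 7, [7, 3]), 3072),
  (([7], 5, [5]), 5120),
  (([7], 6, [6]), 6144),
  (([4, 7, 1], 4, [1]), 15361),
  (([4, 2, 4], 7, [2]), 19457),
  (([7], 0, [0]), 0),
  (([7], 4, [4]), 4096),
  (([4, 3, 2, 1, 6], 5, []), 33801),
  (([5, 2], 7, [2, 5, 7]), 20481),
  (([7, 0, 7], 7, [0]), 0),
  (([7, 1], 7, [1]), 1024),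
  (([2, 7], 7, [7, 2]), 2048),
  (([7, 4, 7], 7, [4]), 4096),
  (([1], 7, [7, 7, 1]), 1024),
  (([3], 7, [7, 7, 3]), 3072),
  (([5], 7, [7, 7, 5]), 5120),
  (([5], 7, [7, 5]), 5120),
  (([7, 3], 7, [3, 7]), 3072),
  (([6], 7, [7, 6]), 6144),
  (([0, 7, 7], 7, [7, 0, 7]), 0),
  (([3, 7], 7, [7, 3]), 3072),
  (([7, 4], 7, [4, 7, 7, 7]), 4096),
  (([6], 7, [7, 6, 7]), 6144),
  (([5, 7], 7, [7, 5]), 5120),
  (([2], 7, [7, 2, 7]), 2048),
  (([0], 7, [7, 0]), 0),
  (([7, 2], 7, [2, 7]), 2048),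
  (([], 7, [1, 6, 7, 7, 5, 4, 7, 7, 3, 2, 7]), 33794),
  (([7], 1, [1]), 1024),
  (([], 7, [1, 0, 7, 1, 7, 0, 7, 7, 7, 1, 0, 7, 1, 7, 0, 7, 7, 7, 1, 0, 7]), 7168),
  (([], 7, [4, 7, 1, 7, 2, 7, 7, 3, 2, 7, 7, 3, 1, 7, 2, 7, 7, 3, 2, 7, 7, 3, 1, 7, 2, 7, 7, 3, 2, 7, 7, 3, 1, 7, 2, 7, 7, 3, 2, 7, 7, 3, 1, 7, 2, 7, 7, 3, 2, 7, 7, 3, 4, 7, 1, 7, 2, 7, 7, 3, 2, 7, 7, 3, 1, 7, 2, 7, 7, 3, 2, 7, 7, 3, 1, 7, 2, 7, 7, 3, 2, 7, 7, 3, 1, 7, 2, 7, 7, 3, 2, 7, 7, 3, 1, 7, 2, 7, 7, 3, 2, 7, 7, 3, 4, 7, 1, 7, 2, 7, 7, 3, 2, 7, 7, 3, 1, 7, 2, 7, 7, 3, 2, 7, 7, 3, 1, 7, 2, 7, 7, 3, 2, 7, 7, 3, 1, 7, 2, 7, 7, 3, 2, 7, 7, 3, 1, 7, 2, 7, 7, 3, 2, 7, 7, 3]), 32819),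
  (([], 7, [6, 7, 7, 1, 7, 6, 7, 1, 7, 7, 6, 7, 7, 1, 7]), 17408),
  (([], 7, []), 43008)]
def subL : List ℕ := []
noncomputable def D : UB where
  tab := field tabCols 6 63 11 2047
  aux := field auxCols 6 63 13 8191
  dinfo := field [dC] 6 63 12 4095 0
  rb := 5
  RM := 31
  pb := 7
  PM := 127
  m := 41
  K := 7
  Kall := 8
  pairs := pairsC.map Prod.fst
  isSub := fun x => subL.contains x
  fuel := 64
def ren : ℕ → ℕ
  | 0 => 0
  | 1 => 1
  | 2 => 2
  | 3 => 3
  | 4 => 4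
  | 5 => 5
  | 6 => 6
  | _ => 0
def relsL : List (List ℕ) := [
  [0, 0],
  [1, 1],
  [2, 2],
  [3, 3],
  [4, 4],
  [5, 5],
  [6, 6],
  [0, 1, 0, 1, 0, 1, 0, 1, 0, 1],
  [0, 2, 0, 2],
  [0, 3, 0, 3],
  [0, 4, 0, 4],
  [0, 5, 0, 5],
  [0, 6, 0, 6],
  [1, 2, 1, 2, 1, 2],
  [1, 3, 1, 3],
  [1, 4, 1, 4],
  [1, 5, 1, 5, 1, 5],
  [1, 6, 1, 6, 1, 6],
  [2, 3, 2, 3, 2, 3, 2, 3, 2, 3, 2, 3, 2, 3, 2, 3],
  [2, 4, 2, 4],
  [2, 5, 2, 5],
  [2, 6, 2, 6],
  [3, 4, 3, 4, 3, 4],
  [3, 5, 3, 5],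
  [3, 6, 3, 6],
  [4, 5, 4, 5],
  [4, 6, 4, 6],
  [5, 6, 5, 6, 5, 6, 5, 6],
  [0, 3, 2, 3, 2, 3, 2, 3, 2],
  [0, 6, 5, 6, 5],
  [0, 1, 2, 5, 0, 1, 2, 5, 0, 1, 2, 5, 0, 1, 2, 5, 0, 1, 2, 5],
  [1, 5, 6, 1, 5, 6, 1, 5, 6, 1, 5, 6, 1, 5, 6],
  [1, 2, 3, 2, 3, 1, 2, 3, 2, 3, 1, 2, 3, 2, 3, 1, 2, 3, 2, 3, 1, 2, 3, 2, 3, 4, 1, 2, 3, 2, 3, 1, 2, 3, 2, 3, 1, 2, 3, 2, 3, 1, 2, 3, 2, 3, 1, 2, 3, 2, 3, 4, 1, 2, 3, 2, 3, 1, 2, 3, 2, 3, 1, 2, 3, 2, 3, 1, 2, 3, 2, 3, 1, 2, 3, 2, 3, 4],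
  [1, 2, 3, 4, 5, 6]]
noncomputable def Lk : Link where
  D := D
  ren := ren
  inv := fun x => x
  rels := relsL
  pairsC := pairsC
  subL := subL
  n := 1
theorem chk_0 : allRange D.checkLabel 0 41 = true := by decide +kernel
theorem check_all : ∀ c < D.m, D.checkLabel c = true := by
  intro c hc
  have hc' : c < 41 := hc
  by_cases h0 : c < 41
  · exact allRange_iff.mp chk_0 c (by omega) (by omega)
  omega
theorem pairs_ok : pairsC.all (pairOK (relsAll relsL (fun x => x) 8) (fun x => x) 7 8) = true := by decide +kernel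
theorem relsK_ok : ∀ r ∈ relsAll relsL (fun x => x) 8, ∀ y ∈ r, y < 8 := by decide +kernel
theorem core : Lk.Core (Cfsg.Agent.Lib.Helper28.SuzPD.pd.words ++ [[1, 2, 3, 4, 5, 6]]) Cfsg.Agent.Lib.Helper28.SuzPD.pd.inv Cfsg.Agent.Lib.Helper28.SuzPD.pd.K [] where
  Kall := rfl
  invK := by decide +kernel
  invE := rfl
  relsIn := by decide +kernel
  Dpairs := rfl
  pairs := pairs_ok
  relsK := relsK_ok
  isSub := by
    intro x hx
    have hx' : subL.contains x = true := hx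
    show x ∈ subL
    simpa using hx'
  sub := by decide +kernel
  check := check_all
theorem fin_all : allBelow D.finalLabel 41 = true := by decide +kernel
theorem live_count : D.liveCount = 1 := by decide +kernel
theorem h0_ok : D.tg D.K 0 = 0 := by decide +kernel
theorem ok : Lk.OK (Cfsg.Agent.Lib.Helper28.SuzPD.pd.words ++ [[1, 2, 3, 4, 5, 6]]) Cfsg.Agent.Lib.Helper28.SuzPD.pd.inv Cfsg.Agent.Lib.Helper28.SuzPD.pd.K [0, 1, 2, 3, 4, 5, 6] [] where
  toCore := core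
  gens := by decide +kernel
  hm := by decide
  h0 := h0_ok
  fin := allBelow_iff.mp fin_all
  count := live_count

end Cfsg.Agent.Lib.Helper28.Suz1782Coll

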