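import Cfsg.Agent.Lib.Helper28.Suz22880ChkL0
import Cfsg.Agent.Lib.Helper28.Suz22880ChkL1
import Cfsg.Agent.Lib.Helper28.Suz22880ChkL2
import Cfsg.Agent.Lib.Helper28.Suz22880ChkL3

set_option autoImplicit false
set_option maxRecDepth 100000

namespace Cfsg.Agent.Lib.Helper28.Suz22880

open Cfsg.Agent.Lib.Helper28
theorem lrel_all : ∀ w ∈ Cfsg.Agent.Lib.Helper28.SuzPD.pd.words, ∀ c < L.n, L.checkRel w c = true := by
  intro w hw c hc
  have hc' : c < 22880 := hc
  by_cases h0 : c < 2352
  · exact allList_iff.mp (allRange_iff.mp lrel_0 c (by omega) (by omega)) w hw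
  by_cases h1 : c < 4704
  · exact allList_iff.mp (allRange_iff.mp lrel_1 c (by omega) (by omega)) w hw
  by_cases h2 : c < 7056
  · exact allList_iff.mp (allRange_iff.mp lrel_2 c (by omega) (by omega)) w hw
  by_cases h3 : c < 9408
  · exact allList_iff.mp (allRange_iff.mp lrel_3 c (by omega) (by omega)) w hw
  by_cases h4 : c < 11760
  · exact allList_iff.mp (allRange_iff.mp lrel_4 c (by omega) (by omega)) w hw
  by_cases h5 : c < 14112
  · exact allList_iff.mp (allRange_iff.mp lrel_5 c (by omega) (by omega)) w hw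
  by_cases h6 : c < 16464
  · exact allList_iff.mp (allRange_iff.mp lrel_6 c (by omega) (by omega)) w hw
  by_cases h7 : c < 18816
  · exact allList_iff.mp (allRange_iff.mp lrel_7 c (by omega) (by omega)) w hw
  by_cases h8 : c < 21168
  · exact allList_iff.mp (allRange_iff.mp lrel_8 c (by omega) (by omega)) w hw
  by_cases h9 : c < 22880
  · exact allList_iff.mp (allRange_iff.mp lrel_9 c (by omega) (by omega)) w hw
  omega

end Cfsg.Agent.Lib.Helper28.Suz22880
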